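import Mathlib
import Cfsg.Agent.H93.Fi23L9.Data

/-!
A checked coset table (generated data).
-/

set_option autoImplicit false
set_option maxRecDepth 100000
set_option linter.all false
set_option Elab.async false

namespace H93
namespace Fi23L9

open Coset

noncomputable section

theorem edge0_0 : data.edgesFast 0 0 1565 = true := by decide +kernel

theorem edge0_1 : data.edgesFast 0 1565 1565 = true := by decide +kernel

theorem edge0_2 : data.edgesFast 0 3130 1565 = true := by decide +kernel

theorem edge0_3 : data.edgesFast 0 4695 1565 = true := by decide +kernel

theorem edge0_4 : data.edgesFast 0 6260 1565 = true := by decide +kernel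

theorem edge0_5 : data.edgesFast 0 7825 1565 = true := by decide +kernel

theorem edge0_6 : data.edgesFast 0 9390 1565 = true := by decide +kernel

theorem edge0_7 : data.edgesFast 0 10955 1565 = true := by decide +kernel

theorem edge0_8 : data.edgesFast 0 12520 1560 = true := by decide +kernel

theorem edge1_0 : data.edgesFast 1 0 1565 = true := by decide +kernel

theorem edge1_1 : data.edgesFast 1 1565 1565 = true := by decide +kernel

theorem edge1_2 : data.edgesFast 1 3130 1565 = true := by decide +kernel

theorem edge1_3 : data.edgesFast 1 4695 1565 = true := by decide +kernel

theorem edge1_4 : data.edgesFast 1 6260 1565 = true := by decide +kernel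

theorem edge1_5 : data.edgesFast 1 7825 1565 = true := by decide +kernel

theorem edge1_6 : data.edgesFast 1 9390 1565 = true := by decide +kernel

theorem edge1_7 : data.edgesFast 1 10955 1565 = true := by decide +kernel

theorem edge1_8 : data.edgesFast 1 12520 1560 = true := by decide +kernel

theorem edge2_0 : data.edgesFast 2 0 1565 = true := by decide +kernel

theorem edge2_1 : data.edgesFast 2 1565 1565 = true := by decide +kernel

theorem edge2_2 : data.edgesFast 2 3130 1565 = true := by decide +kernel

theorem edge2_3 : data.edgesFast 2 4695 1565 = true := by decide +kernel

theorem edge2_4 : data.edgesFast 2 6260 1565 = true := by decide +kernel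

theorem edge2_5 : data.edgesFast 2 7825 1565 = true := by decide +kernel

theorem edge2_6 : data.edgesFast 2 9390 1565 = true := by decide +kernel

theorem edge2_7 : data.edgesFast 2 10955 1565 = true := by decide +kernel

theorem edge2_8 : data.edgesFast 2 12520 1560 = true := by decide +kernel

theorem edge3_0 : data.edgesFast 3 0 1565 = true := by decide +kernel

theorem edge3_1 : data.edgesFast 3 1565 1565 = true := by decide +kernel

theorem edge3_2 : data.edgesFast 3 3130 1565 = true := by decide +kernel

theorem edge3_3 : data.edgesFast 3 4695 1565 = true := by decide +kernel

theorem edge3_4 : data.edgesFast 3 6260 1565 = true := by decide +kernel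

theorem edge3_5 : data.edgesFast 3 7825 1565 = true := by decide +kernel

theorem edge3_6 : data.edgesFast 3 9390 1565 = true := by decide +kernel

theorem edge3_7 : data.edgesFast 3 10955 1565 = true := by decide +kernel

theorem edge3_8 : data.edgesFast 3 12520 1560 = true := by decide +kernel

theorem edge4_0 : data.edgesFast 4 0 1565 = true := by decide +kernel

theorem edge4_1 : data.edgesFast 4 1565 1565 = true := by decide +kernel

theorem edge4_2 : data.edgesFast 4 3130 1565 = true := by decide +kernel

theorem edge4_3 : data.edgesFast 4 4695 1565 = true := by decide +kernel

theorem edge4_4 : data.edgesFast 4 6260 1565 = true := by decide +kernel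

theorem edge4_5 : data.edgesFast 4 7825 1565 = true := by decide +kernel

theorem edge4_6 : data.edgesFast 4 9390 1565 = true := by decide +kernel

theorem edge4_7 : data.edgesFast 4 10955 1565 = true := by decide +kernel

theorem edge4_8 : data.edgesFast 4 12520 1560 = true := by decide +kernel

theorem edge5_0 : data.edgesFast 5 0 1565 = true := by decide +kernel

theorem edge5_1 : data.edgesFast 5 1565 1565 = true := by decide +kernel

theorem edge5_2 : data.edgesFast 5 3130 1565 = true := by decide +kernel

theorem edge5_3 : data.edgesFast 5 4695 1565 = true := by decide +kernel

theorem edge5_4 : data.edgesFast 5 6260 1565 = true := by decide +kernel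

theorem edge5_5 : data.edgesFast 5 7825 1565 = true := by decide +kernel

theorem edge5_6 : data.edgesFast 5 9390 1565 = true := by decide +kernel

theorem edge5_7 : data.edgesFast 5 10955 1565 = true := by decide +kernel

theorem edge5_8 : data.edgesFast 5 12520 1560 = true := by decide +kernel

theorem edge6_0 : data.edgesFast 6 0 1565 = true := by decide +kernel

theorem edge6_1 : data.edgesFast 6 1565 1565 = true := by decide +kernel

theorem edge6_2 : data.edgesFast 6 3130 1565 = true := by decide +kernel

theorem edge6_3 : data.edgesFast 6 4695 1565 = true := by decide +kernel

theorem edge6_4 : data.edgesFast 6 6260 1565 = true := by decide +kernel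

theorem edge6_5 : data.edgesFast 6 7825 1565 = true := by decide +kernel

theorem edge6_6 : data.edgesFast 6 9390 1565 = true := by decide +kernel

theorem edge6_7 : data.edgesFast 6 10955 1565 = true := by decide +kernel

theorem edge6_8 : data.edgesFast 6 12520 1560 = true := by decide +kernel

theorem edge7_0 : data.edgesFast 7 0 1565 = true := by decide +kernel

theorem edge7_1 : data.edgesFast 7 1565 1565 = true := by decide +kernel

theorem edge7_2 : data.edgesFast 7 3130 1565 = true := by decide +kernel

theorem edge7_3 : data.edgesFast 7 4695 1565 = true := by decide +kernel

theorem edge7_4 : data.edgesFast 7 6260 1565 = true := by decide +kernel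

theorem edge7_5 : data.edgesFast 7 7825 1565 = true := by decide +kernel

theorem edge7_6 : data.edgesFast 7 9390 1565 = true := by decide +kernel

end

end Fi23L9
end H93
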